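import Mathlib

/-!
# Closed points and Galois orbits of algebraically closed points
-/

set_option autoImplicit false
set_option linter.style.haveILetI false
set_option backward.isDefEq.respectTransparency false
set_option backward.isDefEq.respectTransparency.types false
universe u

open CategoryTheory AlgebraicGeometry

namespace Groth.Agent.GalPts

theorem closed_iff_and_galois (k K : Type u) [Field k] [Field K]
    [Algebra k K] [IsAlgClosure k K] {X : Scheme.{u}} (f : X ⟶ Spec (CommRingCat.of k))
    [LocallyOfFiniteType f] :
    (∀ x : X, IsClosed ({x} : Set X) ↔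
        ∃ p : Spec (CommRingCat.of K) ⟶ X, p ≫ f = Spec.map (CommRingCat.ofHom (algebraMap k K)) ∧
          p.base (IsLocalRing.closedPoint K) = x) ∧
      ∀ p q : Spec (CommRingCat.of K) ⟶ X,
        p ≫ f = Spec.map (CommRingCat.ofHom (algebraMap k K)) →
        q ≫ f = Spec.map (CommRingCat.ofHom (algebraMap k K)) →
          (p.base (IsLocalRing.closedPoint K) = q.base (IsLocalRing.closedPoint K) ↔
            ∃ σ : K ≃ₐ[k] K, q = Spec.map (CommRingCat.ofHom σ.toRingHom) ≫ p) := by
  haveI := IsAlgClosure.isAlgClosed k (K := K)
  haveI : Algebra.IsAlgebraic k K := IsAlgClosure.isAlgebraic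
  haveI : JacobsonSpace X := LocallyOfFiniteType.jacobsonSpace f
  let ψ : ∀ x : X, CommRingCat.of k ⟶ X.residueField x :=
    fun x => Spec.preimage (X.fromSpecResidueField x ≫ f)
  have hψ : ∀ x, Spec.map (ψ x) = X.fromSpecResidueField x ≫ f := fun x => Spec.map_preimage _
  have key : ∀ p : Spec (CommRingCat.of K) ⟶ X, p ≫ f = Spec.map (CommRingCat.ofHom (algebraMap k K)) →
      ∃ (φ : X.residueField (p (IsLocalRing.closedPoint K)) ⟶ CommRingCat.of K),
        Spec.map φ ≫ X.fromSpecResidueField _ = p ∧
        ψ (p (IsLocalRing.closedPoint K)) ≫ φ = CommRingCat.ofHom (algebraMap k K) := fun p hp => by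
    refine ⟨_, Scheme.descResidueField_stalkClosedPointTo_fromSpecResidueField K X p, Spec.map_injective ?_⟩
    rw [Spec.map_comp, hψ, ← Category.assoc,
      Scheme.descResidueField_stalkClosedPointTo_fromSpecResidueField, hp]
  refine ⟨fun x => ⟨fun hx => ?_, ?_⟩, fun p q hp hq => ⟨fun he => ?_, ?_⟩⟩
  · -- a closed point gives a point over `K`
    letI : Algebra k (X.residueField x) := (ψ x).hom.toAlgebra
    haveI := isClosed_singleton_iff_locallyOfFiniteType.1 hx
    haveI : LocallyOfFiniteType (Spec.map (ψ x)) := by rw [hψ]; infer_instance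
    haveI : Algebra.FiniteType k (X.residueField x) := by
      rw [← RingHom.finiteType_algebraMap]
      exact (HasRingHomProperty.Spec_iff (P := @LocallyOfFiniteType)).1 ‹_›
    haveI : Module.Finite k (X.residueField x) := finite_of_finite_type_of_isJacobsonRing _ _
    let j : X.residueField x →ₐ[k] K := IsAlgClosed.lift
    refine ⟨Spec.map (CommRingCat.ofHom j.toRingHom) ≫ X.fromSpecResidueField x, ?_, Scheme.fromSpecResidueField_apply x (Spec.map (CommRingCat.ofHom j.toRingHom) (IsLocalRing.closedPoint K))⟩
    rw [Category.assoc, ← hψ, ← Spec.map_comp]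
    congr 1
    exact CommRingCat.hom_ext (RingHom.ext j.commutes)
  · rintro ⟨p, hp, rfl⟩
    obtain ⟨φ, -, hφ⟩ := key p hp
    let x := p (IsLocalRing.closedPoint K)
    letI : Algebra k (X.residueField x) := (ψ x).hom.toAlgebra
    let j : X.residueField x →ₐ[k] K :=
      { φ.hom with commutes' := fun c => congr($hφ c) }
    haveI : Algebra.IsAlgebraic k (X.residueField x) := Algebra.IsAlgebraic.of_injective j j.toRingHom.injective
    haveI : Algebra.EssFiniteType k (X.residueField x) := by
      rw [← RingHom.essFiniteType_algebraMap]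
      show (ψ x).hom.EssFiniteType
      let K' := (Spec (CommRingCat.of k)).presheaf.stalk (f x)
      let c : k →+* K' := (StructureSheaf.stalkAlgebra k (f x)).algebraMap
      have hc : Function.Surjective c := by
        letI : Algebra k K' := StructureSheaf.stalkAlgebra k (f x)
        let pt : PrimeSpectrum k := f x
        haveI : IsLocalization.AtPrime K' pt.asIdeal := StructureSheaf.IsLocalization.to_stalk k pt
        have hu : pt.asIdeal.primeCompl ≤ IsUnit.submonoid k := fun s hs =>
          IsUnit.mk0 s fun h0 => hs (h0 ▸ pt.asIdeal.zero_mem)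
        exact (IsLocalization.atUnits k pt.asIdeal.primeCompl hu (S := K')).surjective
      have h1 : (ψ x).hom = ((X.residue x).hom.comp (f.stalkMap x).hom).comp c := by
        have : ψ x = CommRingCat.ofHom c ≫ f.stalkMap x ≫ X.residue x := Spec.map_injective (by
          rw [hψ, Spec.map_comp, Spec.map_comp, Scheme.fromSpecResidueField, Category.assoc, Category.assoc]
          congr 1
          rw [← Scheme.SpecMap_stalkMap_fromSpecStalk]
          congr 1
          exact Spec.fromSpecStalk_eq' (CommRingCat.of k) (f x))
        rw [this]; rfl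
      rw [h1]
      exact (RingHom.FiniteType.essFiniteType (RingHom.FiniteType.of_surjective c hc)).comp
        ((LocallyOfFiniteType.stalkMap f x).comp
          (RingHom.FiniteType.essFiniteType (RingHom.FiniteType.of_surjective _ (X.residue_surjective x))))
    obtain ⟨s, hs⟩ := IntermediateField.fg_top_iff.2 ‹Algebra.EssFiniteType k (X.residueField x)›
    haveI : Module.Finite k (X.residueField x) := by
      haveI : FiniteDimensional k (IntermediateField.adjoin k (s : Set (X.residueField x))) :=
        IntermediateField.finiteDimensional_adjoin fun z _ => (Algebra.IsAlgebraic.isAlgebraic z).isIntegral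
      rw [hs] at this
      exact Module.Finite.equiv (IntermediateField.topEquiv (F := k) (E := X.residueField x)).toLinearEquiv
    refine isClosed_singleton_iff_locallyOfFiniteType.2 ?_
    haveI : LocallyOfFiniteType (X.fromSpecResidueField x ≫ f) := by
      rw [← hψ, HasRingHomProperty.Spec_iff (P := @LocallyOfFiniteType)]
      exact RingHom.finiteType_algebraMap.2 (inferInstanceAs (Algebra.FiniteType k (X.residueField x)))
    exact locallyOfFiniteType_of_comp _ f
  · obtain ⟨φ, hp', hφ⟩ := key p hp
    obtain ⟨φ', hq', hφ'⟩ := key q hq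
    change p (IsLocalRing.closedPoint K) = q (IsLocalRing.closedPoint K) at he
    revert φ φ'
    generalize q (IsLocalRing.closedPoint K) = y at he
    subst he
    intro φ hp' hφ φ' hq' hφ'
    let x := p (IsLocalRing.closedPoint K)
    letI : Algebra k (X.residueField x) := (ψ x).hom.toAlgebra
    letI : Algebra (X.residueField x) K := φ.hom.toAlgebra
    haveI : IsScalarTower k (X.residueField x) K := IsScalarTower.of_algebraMap_eq fun c => (congr($hφ c)).symm
    let j : X.residueField x →ₐ[k] K := { φ'.hom with commutes' := fun c => congr($hφ' c) }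
    haveI : Algebra.IsAlgebraic (X.residueField x) K := Algebra.IsAlgebraic.tower_top (K := k) (A := K) _
    obtain ⟨σ, hσ'⟩ := IsAlgClosed.surjective_domRestrict_of_isAlgebraic (K := k) (L := X.residueField x) (M := K) (E := K) j
    have hσ : ∀ z, σ (φ z) = φ' z := fun z => congr($hσ' z)
    exact ⟨AlgEquiv.ofBijective σ (Algebra.IsAlgebraic.algHom_bijective σ), by
      rw [← hp', ← hq', ← Category.assoc, ← Spec.map_comp]
      congr 2
      exact CommRingCat.hom_ext (RingHom.ext fun z => (hσ z).symm)⟩
  · rintro ⟨σ, rfl⟩
    show p (IsLocalRing.closedPoint K) = p (Spec.map (CommRingCat.ofHom σ.toRingHom) (IsLocalRing.closedPoint K))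
    congr 1
    exact Subsingleton.elim (α := PrimeSpectrum K) _ _

end Groth.Agent.GalPts
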